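import Groth.Agent.Flat2G.ProperDim
import Groth.Agent.Ega43.OpenUniv
import Groth.Agent.S1387
import Mathlib.RingTheory.DiscreteValuationRing.Basic
import Mathlib.AlgebraicGeometry.Morphisms.Flat

/-!
# The special fibre of a flat scheme over a discrete valuation ring is not bigger than the generic one

`dim_closure_le`: `f : X ⟶ Spec V` flat and locally of finite type, `dim X_K ≤ n`; then every point of the
special fibre has closure of dimension at most `n`.
-/

set_option autoImplicit false
universe u

open CategoryTheory CategoryTheory.Limits AlgebraicGeometry Topology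

namespace Groth.Agent.Sga7.H764.FlatDim

open CycB.RelDim

/-- The closure in `X` of a point over a closed point has the dimension of its closure in the fibre. -/
theorem dim_closure_eq_rtd {X S : Scheme.{u}} (f : X ⟶ S) [LocallyOfFiniteType f] (x : X)
    (hs : IsClosed ({f x} : Set S)) :
    ∃ d : ℕ, rtd f x = d ∧ topologicalKrullDim (closure ({x} : Set X)) ≤ d := by
  obtain ⟨w, hw⟩ := S1387.exists_fiber f (f x) x rfl
  obtain ⟨d, hd, hd'⟩ := exists_dim_closure_fiber f (f x) w
  rw [hw] at hd
  refine ⟨d, hd, ?_⟩
  rw [← hd']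
  have hf : ∀ y : closure ({x} : Set X), ∃ v : f.fiber (f x), v ∈ closure ({w} : Set (f.fiber (f x))) ∧
      f.fiberι (f x) v = y := by
    intro y
    have hy : x ⤳ y.1 := specializes_iff_mem_closure.2 y.2
    have h1 : f y.1 = f x := by
      have h2 : f y.1 ∈ closure ({f x} : Set S) := (hy.map f.continuous).mem_closure
      rw [hs.closure_eq] at h2
      exact h2
    obtain ⟨v, hv⟩ := S1387.exists_fiber f (f x) y.1 h1
    refine ⟨v, ?_, hv⟩
    rw [← specializes_iff_mem_closure, ← (f.fiberι (f x)).isEmbedding.isInducing.specializes_iff, hv, hw]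
    exact hy
  choose g hg1 hg2 using hf
  let g' : closure ({x} : Set X) → closure ({w} : Set (f.fiber (f x))) := fun y => ⟨g y, hg1 y⟩
  have hc : (f.fiberι (f x)) ∘ Subtype.val ∘ g' = Subtype.val := funext hg2
  have hg' : IsInducing g' := by
    have h1 : IsInducing ((f.fiberι (f x)) ∘ (Subtype.val : closure ({w} : Set (f.fiber (f x))) → _)) :=
      (f.fiberι (f x)).isEmbedding.isInducing.comp IsInducing.subtypeVal
    have h2 : Continuous g' := by
      rw [h1.continuous_iff]
      change Continuous ((f.fiberι (f x)) ∘ Subtype.val ∘ g')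
      rw [hc]
      exact continuous_subtype_val
    refine IsInducing.of_comp h2 h1.continuous ?_
    change IsInducing ((f.fiberι (f x)) ∘ Subtype.val ∘ g')
    rw [hc]
    exact IsInducing.subtypeVal
  exact hg'.topologicalKrullDim_le

variable {V K : Type u} [CommRing V] [IsDomain V] [IsDiscreteValuationRing V] [Field K] [Algebra V K]
  [IsFractionRing V K]

theorem dim_closure_le {X : Scheme.{u}} (f : X ⟶ Spec (CommRingCat.of V)) [Flat f]
    [LocallyOfFiniteType f] (n : ℕ)
    (hn : topologicalKrullDim ↥(pullback f (Spec.map (CommRingCat.ofHom (algebraMap V K)))) ≤ n)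
    (x : X) (hx : f x = IsLocalRing.closedPoint V) :
    topologicalKrullDim (closure ({x} : Set X)) ≤ n := by
  have hs : IsClosed ({f x} : Set (Spec (CommRingCat.of V))) := by
    rw [hx]
    exact IsLocalRing.isClosed_singleton_closedPoint V
  obtain ⟨d, hd, hd'⟩ := dim_closure_eq_rtd f x hs
  refine hd'.trans ?_
  have hN : IsLocallyNoetherian (Spec (CommRingCat.of V)) := inferInstance
  have hNx : IsNoetherianRing ((Spec (CommRingCat.of V)).presheaf.stalk (f x)) := inferInstance
  obtain ⟨ξ, h, hmax, hdim⟩ := Ega43.OpenUniv.exists_generic_lift f (Flat.generalizingMap f) x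
  have h1 := Ega43.OpenUniv.rtd_le_rtd f h hdim
  let η : Spec (CommRingCat.of V) := (⊥ : PrimeSpectrum V)
  have hη : f ξ = η := by
    have h2 : η ⤳ f ξ := (PrimeSpectrum.le_iff_specializes _ _).1 bot_le
    obtain ⟨ξ', h3, h4⟩ := Flat.generalizingMap f h2
    rw [← hmax ξ' h3, h4]
  have hK : Spec.map (CommRingCat.ofHom (algebraMap V K)) (IsLocalRing.closedPoint K) = η := by
    refine PrimeSpectrum.ext ?_
    change Ideal.comap (algebraMap V K) (IsLocalRing.maximalIdeal K) = ⊥
    rw [IsLocalRing.maximalIdeal_eq_bot]
    exact (RingHom.injective_iff_ker_eq_bot _).1 (IsFractionRing.injective V K)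
  have h5 := Flat2G.ProperDim.topologicalKrullDim_field_point f (K := CommRingCat.of K)
    (Field.toIsField K) _ _ _
    (IsPullback.of_hasPullback f (Spec.map (CommRingCat.ofHom (algebraMap V K)))) (IsLocalRing.closedPoint K)
  rw [hK] at h5
  have h6 := S1387.rtd_le f η n (h5.symm.trans_le hn) ξ hη
  rw [hd] at h1
  have h7 := h1.trans h6
  have h8 : d ≤ n := by exact_mod_cast h7
  exact_mod_cast h8

end Groth.Agent.Sga7.H764.FlatDim
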