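import Groth.Agent.EtpbcB.EdgeLemma

/-!
# The edge map of the Leray spectral sequence in high degrees

For an adjunction `L ⊣ R` with `L` exact, `edge adj A N m : Ext A (R N) m → Ext (L A) N m` is

* surjective if `Ext^p(A, R^{q+1}R N) = 0` for all `p + (q + 1) = m`;
* injective if `Ext^p(A, R^{q+1}R N) = 0` for all `p + (q + 1) + 1 = m`.
-/

set_option autoImplicit false

universe w w' v v' u u'

open CategoryTheory CategoryTheory.Limits CategoryTheory.Abelian

namespace Groth.Agent.Sga7.H764.EdgeHigh

open Groth.Agent.EtpbcB.EdgeLemma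

variable {C : Type u} [Category.{v} C] [Abelian C] [HasExt.{w} C]
variable {D : Type u'} [Category.{v'} D] [Abelian D] [HasExt.{w'} D]
variable {L : C ⥤ D} {R : D ⥤ C} [L.Additive] [PreservesFiniteLimits L] [PreservesFiniteColimits L]

theorem subsingleton_of_iso {A Y Y' : C} (e : Y ≅ Y') (n : ℕ) (h : Subsingleton (Ext.{w} A Y n)) :
    Subsingleton (Ext.{w} A Y' n) := by
  refine subsingleton_of_forall_eq 0 fun x => ?_
  have h0 : x.comp (Ext.mk₀ e.inv) (add_zero n) = 0 := Subsingleton.elim _ _
  have : x = (x.comp (Ext.mk₀ e.inv) (add_zero n)).comp (Ext.mk₀ e.hom) (add_zero n) := by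
    rw [Ext.comp_assoc_of_third_deg_zero, Ext.mk₀_comp_mk₀, e.inv_hom_id, Ext.comp_mk₀_id]
  rw [this, h0, Ext.zero_comp]

variable (adj : L ⊣ R) [R.Additive] [PreservesFiniteLimits R] [EnoughInjectives D]

/-- Surjectivity of the edge map. -/
theorem edge_surjective (A : C) (m : ℕ) : ∀ (N : D),
    (∀ p q, p + (q + 1) = m → Subsingleton (Ext.{w} A ((R.rightDerived (q + 1)).obj N) p)) →
    Function.Surjective (edge adj A N m) := by
  induction m with
  | zero =>
    intro N _ y
    obtain ⟨y, rfl⟩ := (Ext.mk₀_bijective _ _).2 y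
    exact ⟨Ext.mk₀ (adj.homEquiv A N y), by rw [edge_mk₀, Equiv.symm_apply_apply]⟩
  | succ m ih =>
    intro N hN y
    let I : InjectivePresentation N := Classical.arbitrary _
    let S := ShortComplex.mk _ _ (cokernel.condition I.f)
    have hI : Injective S.X₂ := I.injective
    have hS : S.ShortExact := { exact := ShortComplex.exact_cokernel I.f }
    have hRI := injective_R adj S.X₂
    obtain ⟨y', rfl⟩ := Ext.covariant_sequence_exact₁ (L.obj A) hS y
      (Ext.eq_zero_of_injective _) (rfl : m + 1 = m + 1)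
    obtain ⟨z, rfl⟩ := ih S.X₃ (fun p q hpq => by
      obtain ⟨e''⟩ := Etcore.DerLES.nonempty_iso_of_injective R hS q
      exact subsingleton_of_iso e'' p (hN p (q + 1) (by omega))) y'
    obtain ⟨e⟩ := nonempty_iso_coker (R := R) hS
    have hK : Subsingleton (Ext.{w} A (K R S).X₃ m) :=
      subsingleton_of_iso e m (hN m 0 (by omega))
    obtain ⟨e', rfl⟩ := Ext.covariant_sequence_exact₂ A (shortExact_K (R := R) hS) z
      (Subsingleton.elim _ _)
    exact ⟨e'.comp (shortExact_T (R := R) hS).extClass rfl, edge_delta adj hS A m e'⟩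

/-- Injectivity of the edge map. -/
theorem edge_injective (A : C) (m : ℕ) : ∀ (N : D),
    (∀ p q, p + (q + 1) + 1 = m → Subsingleton (Ext.{w} A ((R.rightDerived (q + 1)).obj N) p)) →
    Function.Injective (edge adj A N m) := by
  induction m with
  | zero =>
    intro N _
    rw [injective_iff_map_eq_zero]
    intro y hy
    obtain ⟨y, rfl⟩ := (Ext.mk₀_bijective _ _).2 y
    rw [edge_mk₀] at hy
    have h1 : (adj.homEquiv A N).symm y = 0 := (Ext.mk₀_bijective _ _).1 (hy.trans (Ext.mk₀_zero _ _).symm)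
    have h2 : y = 0 := by
      rw [← (adj.homEquiv A N).apply_symm_apply y, h1]
      simp [Adjunction.homEquiv_unit]
    rw [h2, Ext.mk₀_zero]
  | succ m ih =>
    intro N hN
    rw [injective_iff_map_eq_zero]
    intro x hx
    let I : InjectivePresentation N := Classical.arbitrary _
    let S := ShortComplex.mk _ _ (cokernel.condition I.f)
    have hI : Injective S.X₂ := I.injective
    have hS : S.ShortExact := { exact := ShortComplex.exact_cokernel I.f }
    have hRI := injective_R adj S.X₂
    obtain ⟨e, rfl⟩ := Ext.covariant_sequence_exact₁ A (shortExact_T (R := R) hS) x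
      (Ext.eq_zero_of_injective _) (rfl : m + 1 = m + 1)
    rw [edge_delta adj hS A m] at hx
    obtain ⟨u, hu⟩ := Ext.covariant_sequence_exact₃ (L.obj A) hS _ (rfl : m + 1 = m + 1) hx
    cases m with
    | zero =>
      obtain ⟨u, rfl⟩ := (Ext.mk₀_bijective _ _).2 u
      obtain ⟨e, rfl⟩ := (Ext.mk₀_bijective _ _).2 e
      rw [Ext.mk₀_comp_mk₀, Ext.mk₀_comp_mk₀, edge_mk₀] at hu
      have hu2 := (Ext.mk₀_bijective _ _).1 hu
      have hu3 : (adj.homEquiv A S.X₂ u) ≫ R.map S.g = e ≫ kap R S := by
        rw [← adj.homEquiv_naturality_right, hu2, Equiv.apply_symm_apply]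
      have hm := mono_kap (R := R) hS
      have hu4 : adj.homEquiv A S.X₂ u ≫ cokernel.π (R.map S.f) = e := by
        rw [← cancel_mono (kap R S), Category.assoc, π_kap, hu3]
      rw [← hu4, ← Ext.mk₀_comp_mk₀, Ext.comp_assoc_of_second_deg_zero]
      erw [(shortExact_T (R := R) hS).comp_extClass]
      rw [Ext.comp_zero]
    | succ m =>
      have hu0 : u = 0 := Ext.eq_zero_of_injective u
      rw [hu0, Ext.zero_comp] at hu
      have h3 : e.comp (Ext.mk₀ (kap R S)) (add_zero (m + 1)) = 0 := by
        apply ih S.X₃ (fun p q hpq => ?_)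
        · rw [← hu, map_zero]
        · obtain ⟨e''⟩ := Etcore.DerLES.nonempty_iso_of_injective R hS q
          exact subsingleton_of_iso e'' p (hN p (q + 1) (by omega))
      obtain ⟨e₁⟩ := nonempty_iso_coker (R := R) hS
      have hK : Subsingleton (Ext.{w} A (K R S).X₃ m) :=
        subsingleton_of_iso e₁ m (hN m 0 (by omega))
      obtain ⟨t, rfl⟩ := Ext.covariant_sequence_exact₁ A (shortExact_K (R := R) hS) e h3
        (rfl : m + 1 = m + 1)
      rw [Subsingleton.elim t 0, Ext.zero_comp, Ext.zero_comp]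

end Groth.Agent.Sga7.H764.EdgeHigh
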