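import Groth.Agent.Sga4B.HpullSquare
import Groth.Agent.EtpbcB.EdgeEt
import Groth.Agent.Sga7.H764.EdgeHigh
import Mathlib.CategoryTheory.Sites.SheafCohomology.Basic

/-!
# `EtCore.Hpull` in high degrees

For `j : Y ⟶ X` and `F` on `X`, `K` the kernel and `Q` the cokernel of `F ⟶ j_* j^* F`:
`Hpull j F m` is surjective if `H^{m+1}(X, K) = H^m(X, Q) = 0` and `H^p(X, R^q j_* j^* F) = 0` for
`p + q = m`, `q ≥ 1`; injective if `H^m(X, K) = H^{m-1}(X, Q) = 0` and `H^p(X, R^q j_* j^* F) = 0` for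
`p + q = m - 1`, `q ≥ 1`.
-/

set_option autoImplicit false
universe u

open CategoryTheory CategoryTheory.Limits AlgebraicGeometry Opposite CategoryTheory.Abelian

namespace Groth.Agent.Sga7.H764.HpullHigh

open Groth.Agent.EtpbcB.EdgeEt Groth.Agent.EtpbcB

section abstract

variable {C : Type*} [Category C] [Abelian C] {F G : C} (φ : F ⟶ G)

theorem shortExact_ker : (ShortComplex.mk (kernel.ι φ) (Abelian.factorThruImage φ)
    (by rw [← cancel_mono (Abelian.image.ι φ)]; simp)).ShortExact := by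
  refine ShortComplex.ShortExact.mk' ?_ inferInstance inferInstance
  have hk : IsLimit (KernelFork.ofι (f := φ) (kernel.ι φ) (kernel.condition φ)) := kernelIsKernel φ
  refine ShortComplex.exact_of_f_is_kernel _ ?_
  exact KernelFork.IsLimit.ofι' (kernel.ι φ) _ fun {A} k hk' =>
    ⟨kernel.lift φ k (by rw [← Abelian.image.fac φ, ← Category.assoc]; erw [hk']; exact zero_comp),
      kernel.lift_ι _ _ _⟩

theorem shortExact_coker : (ShortComplex.mk (Abelian.image.ι φ) (cokernel.π φ)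
    (kernel.condition _)).ShortExact :=
  ShortComplex.ShortExact.mk' (ShortComplex.exact_of_f_is_kernel _ (kernelIsKernel _)) inferInstance
    inferInstance

variable [HasExt C]

theorem map_surjective (A : C) (m : ℕ) (h1 : Subsingleton (Ext A (kernel φ) (m + 1)))
    (h2 : Subsingleton (Ext A (cokernel φ) m)) (y : Ext A G m) :
    ∃ x : Ext A F m, x.comp (Ext.mk₀ φ) (add_zero m) = y := by
  obtain ⟨z, rfl⟩ := Ext.covariant_sequence_exact₂ A (shortExact_coker φ) y (Subsingleton.elim _ _)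
  obtain ⟨x, rfl⟩ := Ext.covariant_sequence_exact₃ A (shortExact_ker φ) z (rfl : m + 1 = m + 1)
    (Subsingleton.elim _ _)
  refine ⟨x, ?_⟩
  rw [Ext.comp_assoc_of_third_deg_zero, Ext.mk₀_comp_mk₀]
  exact congrArg (fun t => x.comp (Ext.mk₀ t) (add_zero m)) (Abelian.image.fac φ).symm

theorem map_injective (A : C) (m : ℕ) (h1 : Subsingleton (Ext A (kernel φ) m))
    (h2 : ∀ p, p + 1 = m → Subsingleton (Ext A (cokernel φ) p)) (x : Ext A F m)
    (hx : x.comp (Ext.mk₀ φ) (add_zero m) = 0) : x = 0 := by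
  have hx1 : (x.comp (Ext.mk₀ (Abelian.factorThruImage φ)) (add_zero m)).comp
      (Ext.mk₀ (Abelian.image.ι φ)) (add_zero m) = 0 := by
    rw [Ext.comp_assoc_of_third_deg_zero, Ext.mk₀_comp_mk₀]
    exact (congrArg (fun t => x.comp (Ext.mk₀ t) (add_zero m)) (Abelian.image.fac φ)).trans hx
  have hx2 : x.comp (Ext.mk₀ (Abelian.factorThruImage φ)) (add_zero m) = 0 := by
    cases m with
    | zero =>
      exact (injective_iff_map_eq_zero _).1
        (Ext.postcomp_mk₀_injective_of_mono A (Abelian.image.ι φ)) _ hx1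
    | succ m =>
      have := h2 m rfl
      obtain ⟨t, ht⟩ := Ext.covariant_sequence_exact₁ A (shortExact_coker φ) _ hx1
        (rfl : m + 1 = m + 1)
      rw [← ht, Subsingleton.elim t 0, Ext.zero_comp]
  obtain ⟨t, rfl⟩ := Ext.covariant_sequence_exact₂ A (shortExact_ker φ) x hx2
  rw [Subsingleton.elim t 0, Ext.zero_comp]

end abstract

variable {X Y : Scheme.{u}} (j : Y ⟶ X) [PreservesFiniteLimits (EtCoh.pull j)]

/-- Naturality of the pullback map on cohomology. -/
theorem Hpull_map {F G : EtCoh.Ab X} (φ : F ⟶ G) (n : ℕ) (x : EtCoh.H X F n) :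
    EtCore.Hpull j G n (Sheaf.H.map φ n x) =
      Sheaf.H.map ((EtCoh.pull j).map φ) n (EtCore.Hpull j F n x) :=
  Sga4B.ExtCmp.cmp_mk₀ (EtCoh.pull j) (EtCore.pullConst j ℤ).inv φ x

/-- The pullback map is `H^m(unit)` followed by the edge map. -/
theorem edgeH_unit (F : EtCoh.Ab X) (m : ℕ) (x : EtCoh.H X F m) :
    edgeH j ((EtCoh.pull j).obj F) m (Sheaf.H.map ((EtCoh.pullPushAdj j).unit.app F) m x) =
      EtCore.Hpull j F m x := by
  rw [edgeH_apply]
  refine (congrArg (Sheaf.H.map ((EtCoh.pullPushAdj j).counit.app ((EtCoh.pull j).obj F)) m)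
    (Hpull_map j ((EtCoh.pullPushAdj j).unit.app F) m x)).trans ?_
  refine (Ext.comp_assoc_of_third_deg_zero (EtCore.Hpull j F m x) _ _ (add_zero m)).trans ?_
  refine (congrArg (fun t => Ext.comp (EtCore.Hpull j F m x) t (add_zero m))
    (Ext.mk₀_comp_mk₀ _ _)).trans ?_
  refine (congrArg (fun t => Ext.comp (EtCore.Hpull j F m x) (Ext.mk₀ t) (add_zero m))
    ((EtCoh.pullPushAdj j).left_triangle_components F)).trans ?_
  exact Ext.comp_mk₀_id _

theorem edgeH_surjective (N : EtCoh.Ab Y) (m : ℕ)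
    (h : ∀ p q, p + (q + 1) = m → Subsingleton (EtCoh.H X ((EtCoh.Rpush j (q + 1)).obj N) p)) :
    Function.Surjective (edgeH j N m) := by
  have h1 := EdgeHigh.edge_surjective (EtCoh.pullPushAdj j) (EtCoh.const X ℤ) m N h
  intro y
  obtain ⟨e, rfl⟩ := (bij_aux j N m).2 y
  obtain ⟨x, rfl⟩ := h1 e
  exact ⟨x, edgeH_eq j N m x⟩

theorem edgeH_injective (N : EtCoh.Ab Y) (m : ℕ)
    (h : ∀ p q, p + (q + 1) + 1 = m → Subsingleton (EtCoh.H X ((EtCoh.Rpush j (q + 1)).obj N) p)) :
    Function.Injective (edgeH j N m) := by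
  have h1 := EdgeHigh.edge_injective (EtCoh.pullPushAdj j) (EtCoh.const X ℤ) m N h
  intro a b hab
  rw [edgeH_eq, edgeH_eq] at hab
  exact h1 ((bij_aux j N m).1 hab)

theorem Hpull_surjective (F : EtCoh.Ab X) (m : ℕ)
    (hK : Subsingleton (EtCoh.H X (kernel ((EtCoh.pullPushAdj j).unit.app F)) (m + 1)))
    (hQ : Subsingleton (EtCoh.H X (cokernel ((EtCoh.pullPushAdj j).unit.app F)) m))
    (h : ∀ p q, p + (q + 1) = m →
      Subsingleton (EtCoh.H X ((EtCoh.Rpush j (q + 1)).obj ((EtCoh.pull j).obj F)) p)) :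
    Function.Surjective (EtCore.Hpull j F m) := by
  intro y
  obtain ⟨z, rfl⟩ := edgeH_surjective j ((EtCoh.pull j).obj F) m h y
  obtain ⟨x, rfl⟩ := map_surjective ((EtCoh.pullPushAdj j).unit.app F) (EtCoh.const X ℤ) m hK hQ z
  exact ⟨x, (edgeH_unit j F m x).symm⟩

theorem Hpull_injective (F : EtCoh.Ab X) (m : ℕ)
    (hK : Subsingleton (EtCoh.H X (kernel ((EtCoh.pullPushAdj j).unit.app F)) m))
    (hQ : ∀ p, p + 1 = m → Subsingleton (EtCoh.H X (cokernel ((EtCoh.pullPushAdj j).unit.app F)) p))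
    (h : ∀ p q, p + (q + 1) + 1 = m →
      Subsingleton (EtCoh.H X ((EtCoh.Rpush j (q + 1)).obj ((EtCoh.pull j).obj F)) p)) :
    Function.Injective (EtCore.Hpull j F m) := by
  rw [injective_iff_map_eq_zero]
  intro x hx
  rw [← edgeH_unit] at hx
  have h1 := (injective_iff_map_eq_zero _).1 (edgeH_injective j ((EtCoh.pull j).obj F) m h) _ hx
  exact map_injective ((EtCoh.pullPushAdj j).unit.app F) (EtCoh.const X ℤ) m hK hQ x h1

end Groth.Agent.Sga7.H764.HpullHigh
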