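import Groth.Agent.EtpbcA.LATrans
import Groth.Agent.Sga4h.UlaRed
import Groth.Agent.S0712
import Groth.Agent.S0760
import Groth.Agent.EtpbcB.TorsionBasic

/-!
# Nearby cycles of `ℤ/m` at smooth points

`laStalk_of_smooth`: over a strictly henselian local ring `A`, at a point `x` over the closed point near
which `f` is smooth, `ℤ/m ⟶ R j_* j^* ℤ/m` is an isomorphism at `x`, for every geometric fibre `j` of `f`
(`m` invertible in `A`).
-/

set_option autoImplicit false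
universe u

open CategoryTheory CategoryTheory.Limits AlgebraicGeometry Opposite IsLocalRing

namespace Groth.Agent.Sga7.H764.SmoothPts

open Groth.Agent.Sga1.UlaLoc Groth.Agent.Sga1.UlaGeo Groth.Agent.Sga1.UlaSL Groth.Agent.Sga1.UlaRes
  Groth.Agent.EtpbcA.LA

theorem isLocallyConstant_const (X : Scheme.{u}) (M : Type) [AddCommGroup M] :
    EtRest.IsLocallyConstant (EtCoh.const X M) :=
  ⟨PUnit, fun _ => EtCoh.top X, fun x => ⟨PUnit.unit, x, rfl⟩, fun _ => ⟨ULift.{u + 1} M, inferInstance,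
    ⟨(Etrest.ConstBasic.constOver (EtCoh.top X)).app _⟩⟩⟩

theorem killedBy_constZMod (X : Scheme.{u}) (m : ℕ) : EtCoh.KilledBy m (EtCoh.const X (ZMod m)) :=
  EtpbcB.TorsionBasic.killedBy_const (ZMod m) m (fun x => by simp)

theorem stalk_killed {X : Scheme.{u}} {F : EtCoh.Ab X} {m : ℕ} (hF : EtCoh.KilledBy m F)
    {Ω : Type u} [Field Ω] [IsSepClosed Ω] (ξ : Spec (CommRingCat.of Ω) ⟶ X)
    (s : (EtCoh.stalk ξ).obj F) : m • s = 0 := by
  obtain ⟨U, t, a, rfl⟩ := EtpbcA.Germ.germ_surj ξ F s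
  rw [← map_nsmul, hF, map_zero]

variable {A : Type u} [CommRing A]

theorem natCast_ne_zero {m : ℕ} (hm : IsUnit (m : A)) {Ω : Type u} [Field Ω] {U : Scheme.{u}}
    (g : U ⟶ Spec (CommRingCat.of A)) (ξ : Spec (CommRingCat.of Ω) ⟶ U) : (m : Ω) ≠ 0 := by
  have h := hm.map (Spec.preimage (ξ ≫ g)).hom
  rw [map_natCast] at h
  exact h.ne_zero

theorem isLARelAt_const {U : Scheme.{u}} (g : U ⟶ Spec (CommRingCat.of A)) [Smooth g] (m : ℕ)
    (hm0 : 0 < m) (hm : IsUnit (m : A)) (y : U) :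
    SGA4h.IsLARelAt g (EtCoh.const U (ZMod m)) y := by
  intro RS RX _ _ _ _ _ _ _ _ _ _ _ _ hc Ω _ _ _ _ q
  have hla : EtRest.IsLocallyAcyclic g := by
    intro x RS RX _ _ _ _ _ _ _ _ _ _ _ _ hc Ω _ _ _ n hn
    exact ⟨fun q hq => (S0712.result g x RS RX hc Ω n hn q).1 hq,
      (S0712.result g x RS RX hc Ω n hn 0).2⟩
  have h1 := S0760.result g hla (EtCoh.const U (ZMod m)) (isLocallyConstant_const U (ZMod m))
    (fun Ω _ _ ξ s => ⟨m, hm0, natCast_ne_zero hm g ξ, stalk_killed (killedBy_constZMod U m) ξ s⟩)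
    y RS RX hc Ω q
  have h2 : Function.Bijective ((EtCoh.HF _ q).map ((((EtCore.pullComp
      (Spec.map (CommRingCat.ofHom (algebraMap RX (EtRest.vcRing RS RX Ω)))) (Hens2.specOf U y RX)).symm
        ≪≫ EtCore.pullCongr rfl).app (EtCoh.const U (ZMod m))).hom)).hom :=
    ConcreteCategory.bijective_of_isIso _
  exact (Function.Bijective.of_comp_iff' h2 _).1 h1

theorem laStalk_of_smooth [HenselianLocalRing A] [IsSepClosed (ResidueField A)] {X : Scheme.{u}}
    (f : X ⟶ Spec (CommRingCat.of A)) (U : X.Opens) [Smooth (U.ι ≫ f)] (x : X) (hxU : x ∈ U)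
    (hx : f x = closedPoint A) (m : ℕ) (hm : (m : ResidueField A) ≠ 0)
    {k : Type u} [Field k] [IsSepClosed k] (ξ : Spec (CommRingCat.of k) ⟶ X) (hξ : ξ default = x)
    (Ω : Type u) [Field Ω] [IsSepClosed Ω] (t : Spec (CommRingCat.of Ω) ⟶ Spec (CommRingCat.of A)) :
    LAStalk (pullback.fst f t) (EtCoh.const X (ZMod m)) ξ := by
  have hm0 : 0 < m := Nat.pos_of_ne_zero fun h => hm (by rw [h, Nat.cast_zero])
  have hm1 : IsUnit (m : A) := by
    by_contra h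
    exact hm (by rw [← map_natCast (residue A)]; exact (residue_eq_zero_iff _).2 h)
  refine (lAt_iff_laStalk f (EtCoh.const X (ZMod m)) ξ x hx hξ).1 ?_ Ω t
  have h1 : LAt (U.ι ≫ f) (EtCoh.const U.toScheme (ZMod m)) (⟨x, hxU⟩ : U) :=
    lAt_of_isLARelAt (isLARelAt_const (U.ι ≫ f) m hm0 hm1 _)
  have h2 : LAt (U.ι ≫ f) ((EtCoh.pull U.ι).obj (EtCoh.const X (ZMod m))) (⟨x, hxU⟩ : U) :=
    (Sga4h.UlaRed.lAt_iso (EtCore.pullConst U.ι (ZMod m)) (U.ι ≫ f) _).2 h1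
  exact (lAt_comp_source U.ι f (EtCoh.const X (ZMod m)) (⟨x, hxU⟩ : U)).1 h2

end Groth.Agent.Sga7.H764.SmoothPts
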