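import Groth.Agent.Desc.DimMap

/-!
# Dimension of a closed subset through closures of points
-/

set_option autoImplicit false
universe u
open Topology Order

namespace Groth.Agent.Sga7.H764.DimClosure

section

attribute [local instance] specializationOrder

theorem aux {S C : Type u} [TopologicalSpace S] [TopologicalSpace C] [T0Space S] [T0Space C] [QuasiSober C]
    (c : C → S) (hc : IsInducing c) (s : LTSeries S) (h : ∀ i, s i ∈ Set.range c) :
    (s.length : WithBot ℕ∞) ≤ topologicalKrullDim C := by
  rw [Desc.DimMap.topologicalKrullDim_eq]
  choose t ht using h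
  let r : LTSeries C :=
    { length := s.length
      toFun := t
      step := fun i => by
        have h1 : s i.castSucc < s i.succ := s.step i
        have h2 : s i.succ ⤳ s i.castSucc := h1.le
        rw [← ht, ← ht, hc.specializes_iff] at h2
        have h3 : t i.castSucc ≤ t i.succ := h2
        refine lt_of_le_of_ne h3 ?_
        intro h4
        have h5 := congrArg c h4
        rw [ht, ht] at h5
        exact h1.ne h5 }
  exact le_iSup (fun p : LTSeries C => (p.length : WithBot ℕ∞)) r

theorem aux2 {S : Type u} [TopologicalSpace S] [T0Space S] [QuasiSober S] (e : WithBot ℕ∞)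
    (h : ∀ s : LTSeries S, (∀ i, s.last ⤳ s i) → (s.length : WithBot ℕ∞) ≤ e) :
    topologicalKrullDim S ≤ e := by
  rw [Desc.DimMap.topologicalKrullDim_eq]
  refine iSup_le fun s => h s fun i => ?_
  have h1 : s i ≤ s.last := s.monotone (Fin.le_last i)
  exact h1

end

/-- A sober space all of whose points have closure of dimension `≤ e` has dimension `≤ e`. -/
theorem topologicalKrullDim_le_of_forall {S : Type u} [TopologicalSpace S] [T0Space S] [QuasiSober S]
    (e : WithBot ℕ∞) (h : ∀ z : S, topologicalKrullDim (closure ({z} : Set S)) ≤ e) :
    topologicalKrullDim S ≤ e := by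
  refine aux2 e fun s hs => ?_
  have : QuasiSober (closure ({s.last} : Set S)) :=
    isClosed_closure.isClosedEmbedding_subtypeVal.quasiSober
  refine le_trans (aux (Subtype.val : closure ({s.last} : Set S) → S) IsInducing.subtypeVal s fun i => ?_)
    (h s.last)
  rw [Subtype.range_coe]
  exact (hs i).mem_closure

theorem closure_le_of_isInducing {S T : Type u} [TopologicalSpace S] [TopologicalSpace T] (f : S → T)
    (hf : IsInducing f) (x : S) :
    topologicalKrullDim (closure ({x} : Set S)) ≤ topologicalKrullDim (closure ({f x} : Set T)) := by
  have h : ∀ y : closure ({x} : Set S), f y.1 ∈ closure ({f x} : Set T) := fun y => by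
    have := image_closure_subset_closure_image hf.continuous (Set.mem_image_of_mem f y.2)
    rwa [Set.image_singleton] at this
  let g : closure ({x} : Set S) → closure ({f x} : Set T) := fun y => ⟨f y.1, h y⟩
  have hg : IsInducing g := by
    refine IsInducing.of_comp (g := (Subtype.val : closure ({f x} : Set T) → T)) ?_ ?_ ?_
    · exact (hf.continuous.comp continuous_subtype_val).subtype_mk _
    · exact continuous_subtype_val
    · exact hf.comp IsInducing.subtypeVal
  exact hg.topologicalKrullDim_le

/-- A subset of a `T0` space, quasi-sober itself, all of whose points have closure of dimension `≤ e`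
has dimension `≤ e`. -/
theorem topologicalKrullDim_le {T : Type u} [TopologicalSpace T] [T0Space T] (Z : Set T)
    [QuasiSober Z] (e : WithBot ℕ∞)
    (h : ∀ z ∈ Z, topologicalKrullDim (closure ({z} : Set T)) ≤ e) : topologicalKrullDim Z ≤ e :=
  topologicalKrullDim_le_of_forall e fun z =>
    (closure_le_of_isInducing (Subtype.val : Z → T) IsInducing.subtypeVal z).trans (h z.1 z.2)

theorem topologicalKrullDim_le_of_isClosed {T : Type u} [TopologicalSpace T] [T0Space T] [QuasiSober T]
    (Z : Set T) (hZ : IsClosed Z) (e : WithBot ℕ∞)
    (h : ∀ z ∈ Z, topologicalKrullDim (closure ({z} : Set T)) ≤ e) : topologicalKrullDim Z ≤ e := by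
  have := hZ.isClosedEmbedding_subtypeVal.quasiSober
  exact topologicalKrullDim_le Z e h

/-- Dimension of closures decreases under specialization. -/
theorem closure_mono {T : Type u} [TopologicalSpace T] {x y : T} (h : x ⤳ y) :
    topologicalKrullDim (closure ({y} : Set T)) ≤ topologicalKrullDim (closure ({x} : Set T)) :=
  (IsEmbedding.inclusion (closure_minimal (Set.singleton_subset_iff.2 h.mem_closure)
    isClosed_closure)).isInducing.topologicalKrullDim_le

end Groth.Agent.Sga7.H764.DimClosure
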