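import Groth.Agent.EtpbcA.ArtinQK
import Groth.Agent.EtpbcA.CdTwoDim
import Groth.Agent.EtpbcB.HpullTors
import Groth.Agent.Sga7.H764.DimClosure

/-!
# Vanishing of the cohomology of sheaves with small support

* `van_of_supp_dim`: `X` of finite type over a separably closed field, `F` torsion supported at points
  whose closure has dimension `≤ e`: `H^q(X, F) = 0` for `q > 2e`;
* `van_proper`: `X` proper over a strictly henselian local ring `A`, `F` torsion, all points of `supp F`
  over the closed point having closure of dimension `≤ e`: `H^q(X, F) = 0` for `q > 2e`;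
* `van_proper_of_disjoint`: the same in all degrees if no point of `supp F` lies over the closed point.
-/

set_option autoImplicit false
universe u
open CategoryTheory CategoryTheory.Limits AlgebraicGeometry Opposite TopologicalSpace

namespace Groth.Agent.Sga7.H764.SuppDim

open Groth.Agent.EtpbcA Groth.Agent.EtpbcA.Artin

theorem van_of_supp_dim {K : Type u} [Field K] [IsSepClosed K] (X : Scheme.{u})
    (a : X ⟶ Spec (CommRingCat.of K)) [LocallyOfFiniteType a] [QuasiCompact a] (e : ℕ)
    (F : EtCoh.Ab X) (hF : EtCoh.IsTorsion F)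
    (hs : ∀ x ∈ EtPBC.supp F, topologicalKrullDim (closure ({x} : Set X)) ≤ e)
    (q : ℕ) (hq : 2 * e < q) : Subsingleton (EtCoh.H X F q) := by
  have hn : IsLocallyNoetherian X := LocallyOfFiniteType.isLocallyNoetherian a
  have hc : CompactSpace X := QuasiCompact.compactSpace_of_compactSpace a
  have hN : IsNoetherian X := {}
  refine SuppFilt.van_of_supp_stable {x | topologicalKrullDim (closure ({x} : Set X)) ≤ e} q
    (S0099.result X q (SuppFilt.Index X _)) (fun x y hxy hx => (DimClosure.closure_mono hxy).trans hx)
    ?_ F hF hs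
  intro Z hZc hZE G hG hGZ
  let I := Scheme.IdealSheafData.vanishingIdeal (X := X) ⟨Z, hZc⟩
  have hr : Set.range I.subschemeι = Z := by
    rw [Scheme.IdealSheafData.range_subschemeι, Scheme.IdealSheafData.coe_support_vanishingIdeal]
    rfl
  refine SuppClosed.van_of_supp_closed I.subschemeι G (by rw [hr]; exact hGZ) q (by omega) ?_
  have hd : topologicalKrullDim I.subscheme ≤ e := by
    have h1 : topologicalKrullDim (Set.range I.subschemeι) ≤ e := by
      rw [hr]
      exact DimClosure.topologicalKrullDim_le_of_isClosed Z hZc e fun z hz => hZE hz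
    have h2 : Topology.IsInducing (Set.rangeFactorization I.subschemeι) :=
      Topology.IsInducing.of_comp (I.subschemeι.continuous.subtype_mk _) continuous_subtype_val
        I.subschemeι.isClosedEmbedding.isInducing
    exact h2.topologicalKrullDim_le.trans h1
  exact CdTwoDim.cohDimLE_two_mul I.subscheme (I.subschemeι ≫ a) e hd _
    (Etcore.Torsion.isTorsion_pull _ _ hG) q hq

section proper

variable {A : Type u} [CommRing A] [HenselianLocalRing A] [IsSepClosed (IsLocalRing.ResidueField A)]
  {X : Scheme.{u}} (f : X ⟶ Spec (CommRingCat.of A)) [IsProper f]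

/-- The closed fibre. -/
noncomputable abbrev icl : pullback f (Spec.map (CommRingCat.ofHom (IsLocalRing.residue A))) ⟶ X :=
  pullback.fst f (Spec.map (CommRingCat.ofHom (IsLocalRing.residue A)))

theorem H_subsingleton_of_fibre (F : EtCoh.Ab X) (hF : EtCoh.IsTorsion F) (q : ℕ)
    (h : Subsingleton (EtCoh.H _ ((EtCoh.pull (icl f)).obj F) q)) : Subsingleton (EtCoh.H X F q) := by
  have : PreservesFiniteLimits (EtCoh.pull (icl f)) := S0101.result _
  exact (EtpbcB.HpullTors.bijective_Hpull_fibre (IsLocalRing.residue A) IsLocalRing.ker_residue f F hF q).1.subsingleton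

omit [IsSepClosed (IsLocalRing.ResidueField A)] [IsProper f] in
theorem icl_apply (x : ↥(pullback f (Spec.map (CommRingCat.ofHom (IsLocalRing.residue A))))) :
    f (icl f x) = IsLocalRing.closedPoint A := by
  have h1 : (icl f ≫ f) x =
      (pullback.snd f (Spec.map (CommRingCat.ofHom (IsLocalRing.residue A))) ≫
        Spec.map (CommRingCat.ofHom (IsLocalRing.residue A))) x := by
    rw [pullback.condition]
  rw [Scheme.Hom.comp_apply, Scheme.Hom.comp_apply] at h1
  rw [h1]
  refine PrimeSpectrum.ext ?_
  change Ideal.comap (IsLocalRing.residue A) _ = _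
  rw [Subsingleton.elim (pullback.snd f (Spec.map (CommRingCat.ofHom (IsLocalRing.residue A))) x)
    (⊥ : PrimeSpectrum (IsLocalRing.ResidueField A))]
  exact IsLocalRing.ker_residue

theorem van_proper (e : ℕ) (F : EtCoh.Ab X) (hF : EtCoh.IsTorsion F)
    (hs : ∀ x ∈ EtPBC.supp F, f x = IsLocalRing.closedPoint A →
      topologicalKrullDim (closure ({x} : Set X)) ≤ e)
    (q : ℕ) (hq : 2 * e < q) : Subsingleton (EtCoh.H X F q) := by
  refine H_subsingleton_of_fibre f F hF q ?_
  refine van_of_supp_dim _ (pullback.snd f (Spec.map (CommRingCat.ofHom (IsLocalRing.residue A)))) e _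
    (Etcore.Torsion.isTorsion_pull _ _ hF) (fun x hx => ?_) q hq
  rw [supp_pull] at hx
  have h0 : IsClosedImmersion (Spec.map (CommRingCat.ofHom (IsLocalRing.residue A))) :=
    IsClosedImmersion.spec_of_surjective _ IsLocalRing.residue_surjective
  have h1 : IsClosedImmersion (icl f) := inferInstance
  exact (DimClosure.closure_le_of_isInducing _ (icl f).isClosedEmbedding.isInducing x).trans
    (hs _ hx (icl_apply f x))

theorem van_proper_of_disjoint (F : EtCoh.Ab X) (hF : EtCoh.IsTorsion F)
    (hs : ∀ x ∈ EtPBC.supp F, f x ≠ IsLocalRing.closedPoint A) (q : ℕ) :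
    Subsingleton (EtCoh.H X F q) := by
  refine H_subsingleton_of_fibre f F hF q ?_
  refine CdEtLeray.H_subsingleton_of_isZero (isZero_of_forall _ fun x hx => ?_) q
  rw [supp_pull] at hx
  exact hs _ hx (icl_apply f x)

end proper

end Groth.Agent.Sga7.H764.SuppDim
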