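import Groth.Agent.Sga7.H764.Nearby
import Groth.Agent.Sga7.H764.FlatDim
import Groth.Agent.Sga7.H764.SmoothPts
import Groth.Agent.Sga7.H764.SuppDim
import Groth.Agent.Sga7.H764.HpullHigh
import Mathlib.FieldTheory.IsSepClosed

/-!
# The specialisation map in high degrees, from the bound on nearby cycles

`main`: S4084 with the conclusion of S4079 as a hypothesis.
-/

set_option autoImplicit false
universe u

open CategoryTheory CategoryTheory.Limits AlgebraicGeometry Opposite IsLocalRing

namespace Groth.Agent.Sga7.H764.Main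

open Groth.Agent.EtpbcA.Artin Groth.Agent.EtpbcA.LA Nearby EtpbcB.TorsionBasic

/-- `f` is smooth along its smooth locus. -/
theorem smooth_smoothLocus {X S : Scheme.{u}} (f : X ⟶ S) [LocallyOfFinitePresentation f] :
    Smooth (f.smoothLocus.ι ≫ f) := by
  rw [← Scheme.Hom.smoothLocus_eq_top_iff, ← Scheme.Hom.preimage_smoothLocus_eq]
  simp

theorem le_cast_min {a b : ℕ} {t : WithBot ℕ∞} (h : t ≤ a) (h' : t ≤ b) :
    t ≤ ((min a b : ℕ) : WithBot ℕ∞) := by
  rcases min_choice a b with h1 | h1 <;> rw [h1] <;> assumption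

section stalks

variable {X Y : Scheme.{u}} {eps : Y ⟶ X} {F : EtCoh.Ab X}

/-- The kernel and cokernel of the unit have no stalk where `LAStalk` holds. -/
theorem not_mem_supp_kernel {k : Type u} [Field k] [IsSepClosed k] (ξ : Spec (CommRingCat.of k) ⟶ X)
    (x : X) (hξ : ξ default = x)
    (h : Function.Bijective ((EtCoh.stalk ξ).map ((EtCoh.pullPushAdj eps).unit.app F))) :
    x ∉ EtPBC.supp (kernel ((EtCoh.pullPushAdj eps).unit.app F)) := by
  rw [mem_supp_iff _ x ξ ((range_eq_iff _ _).2 hξ), not_not]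
  have hm : Mono ((EtCoh.stalk ξ).map ((EtCoh.pullPushAdj eps).unit.app F)) :=
    (AddCommGrpCat.mono_iff_injective _).2 h.1
  refine IsZero.of_iso (isZero_kernel_of_mono ((EtCoh.stalk ξ).map ((EtCoh.pullPushAdj eps).unit.app F))) ?_
  exact PreservesKernel.iso (EtCoh.stalk ξ) _

theorem not_mem_supp_cokernel {k : Type u} [Field k] [IsSepClosed k] (ξ : Spec (CommRingCat.of k) ⟶ X)
    (x : X) (hξ : ξ default = x)
    (h : Function.Bijective ((EtCoh.stalk ξ).map ((EtCoh.pullPushAdj eps).unit.app F))) :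
    x ∉ EtPBC.supp (cokernel ((EtCoh.pullPushAdj eps).unit.app F)) := by
  rw [mem_supp_iff _ x ξ ((range_eq_iff _ _).2 hξ), not_not]
  have hm : Epi ((EtCoh.stalk ξ).map ((EtCoh.pullPushAdj eps).unit.app F)) :=
    (AddCommGrpCat.epi_iff_surjective _).2 h.2
  refine IsZero.of_iso (isZero_cokernel_of_epi ((EtCoh.stalk ξ).map ((EtCoh.pullPushAdj eps).unit.app F))) ?_
  exact PreservesCokernel.iso (EtCoh.stalk ξ) _

end stalks

theorem main (V K Ω : Type u) [CommRing V] [IsDomain V]
    [IsDiscreteValuationRing V] [HenselianLocalRing V] [IsSepClosed (IsLocalRing.ResidueField V)]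
    [Field K] [Algebra V K] [IsFractionRing V K] [Field Ω] [Algebra K Ω] [IsSepClosure K Ω]
    [Algebra V Ω] [IsScalarTower V K Ω] (m : ℕ) (hm : (m : IsLocalRing.ResidueField V) ≠ 0)
    {X : Scheme.{u}} (f : X ⟶ Spec (CommRingCat.of V)) [IsProper f] [Flat f] [LocallyOfFinitePresentation f]
    (n : ℕ) (hn : topologicalKrullDim ↥(pullback f (Spec.map (CommRingCat.ofHom (algebraMap V K)))) ≤ n)
    (d : ℕ) (hd : topologicalKrullDim {x : ↥X // f.base x = IsLocalRing.closedPoint V ∧ x ∉ f.smoothLocus} ≤ d)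
    [PreservesFiniteLimits (EtCoh.pull (pullback.fst f (Spec.map (CommRingCat.ofHom (algebraMap V Ω)))))]
    (H : ∀ (x : ↥X) (_ : f.base x = IsLocalRing.closedPoint V) (k : ℕ) (_ : k ≤ n)
      (_ : (k : WithBot ℕ∞) ≤ topologicalKrullDim ↥(closure ({x} : Set ↥X)))
      (Osh : Type u) [CommRing Osh] [IsLocalRing Osh] [Algebra ↑(X.presheaf.stalk x) Osh]
      [IsLocalHom (algebraMap ↑(X.presheaf.stalk x) Osh)]
      [Hensel.IsStrictHenselization ↑(X.presheaf.stalk x) Osh] (i : ℕ) (_ : n - k < i),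
      Subsingleton (EtCoh.H (SGA7.nearbyFibre f x Osh Ω)
        (EtCoh.const (SGA7.nearbyFibre f x Osh Ω) (ZMod m)) i))
    (i : ℕ) :
    (n + d + 1 < i → Function.Bijective
      (EtCore.Hpull (pullback.fst f (Spec.map (CommRingCat.ofHom (algebraMap V Ω)))) (EtCoh.const X (ZMod m)) i)) ∧
    (i = n + d + 1 → Function.Surjective
      (EtCore.Hpull (pullback.fst f (Spec.map (CommRingCat.ofHom (algebraMap V Ω)))) (EtCoh.const X (ZMod m)) i)) := by
  have hsepΩ : IsSepClosed Ω := IsSepClosure.sep_closed K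
  have hm0 : 0 < m := Nat.pos_of_ne_zero fun h => hm (by rw [h, Nat.cast_zero])
  -- dimension of the closures
  have hdimn : ∀ x : X, f x = closedPoint V → topologicalKrullDim (closure ({x} : Set X)) ≤ n :=
    fun x hx => FlatDim.dim_closure_le (K := K) f n hn x hx
  let Z : Set X := {x | f x = closedPoint V ∧ x ∉ f.smoothLocus}
  have hZc : IsClosed Z := by
    have h1 : Z = f ⁻¹' {closedPoint V} ∩ (f.smoothLocus : Set X)ᶜ := rfl
    rw [h1]
    exact ((isClosed_singleton_closedPoint V).preimage f.continuous).inter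
      f.smoothLocus.isOpen.isClosed_compl
  have hdimd : ∀ x ∈ Z, topologicalKrullDim (closure ({x} : Set X)) ≤ d := fun x hx =>
    ((Topology.IsEmbedding.inclusion (closure_minimal (Set.singleton_subset_iff.2 hx)
      hZc)).isInducing.topologicalKrullDim_le).trans hd
  -- torsion
  let F := EtCoh.const X (ZMod m)
  let j := jb Ω f
  have hF : EtCoh.KilledBy m F := SmoothPts.killedBy_constZMod X m
  have hjF : EtCoh.KilledBy m ((EtCoh.pull j).obj F) := killedBy_map (EtCoh.pull j) m F hF
  have htK : EtCoh.IsTorsion (kernel ((EtCoh.pullPushAdj j).unit.app F)) :=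
    isTorsion_of_mono (kernel.ι _) (isTorsion_of_killedBy hm0 hF)
  have htQ : EtCoh.IsTorsion (cokernel ((EtCoh.pullPushAdj j).unit.app F)) :=
    isTorsion_of_epi (cokernel.π _) (isTorsion_of_killedBy hm0 (killedBy_map (EtCoh.push j) m _ hjF))
  have htR : ∀ q, EtCoh.IsTorsion ((EtCoh.Rpush j q).obj ((EtCoh.pull j).obj F)) := fun q =>
    isTorsion_of_killedBy hm0 (killedBy_map (EtCoh.Rpush j q) m _ hjF)
  -- smooth points
  have hsm : ∀ x : X, f x = closedPoint V → x ∈ f.smoothLocus → ∃ (k : Type u) (_ : Field k)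
      (_ : IsSepClosed k) (ξ : Spec (CommRingCat.of k) ⟶ X), ξ default = x ∧ LAStalk j F ξ := by
    intro x hx hxU
    obtain ⟨k, _, _, ξ, hξ⟩ := exists_point x
    have hξ' := (range_eq_iff ξ x).1 hξ
    have := smooth_smoothLocus f
    exact ⟨k, inferInstance, inferInstance, ξ, hξ', SmoothPts.laStalk_of_smooth f f.smoothLocus x hxU hx m
      hm ξ hξ' Ω (Spec.map (CommRingCat.ofHom (algebraMap V Ω)))⟩
  have hsK : ∀ x ∈ EtPBC.supp (kernel ((EtCoh.pullPushAdj j).unit.app F)), f x = closedPoint V →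
      topologicalKrullDim (closure ({x} : Set X)) ≤ (min d n : ℕ) := by
    intro x hxs hx
    have h1 : x ∉ f.smoothLocus := fun hxU => by
      obtain ⟨k, _, _, ξ, hξ, hL⟩ := hsm x hx hxU
      exact not_mem_supp_kernel ξ x hξ hL.1 hxs
    exact le_cast_min (hdimd x ⟨hx, h1⟩) (hdimn x hx)
  have hsQ : ∀ x ∈ EtPBC.supp (cokernel ((EtCoh.pullPushAdj j).unit.app F)), f x = closedPoint V →
      topologicalKrullDim (closure ({x} : Set X)) ≤ (min d n : ℕ) := by
    intro x hxs hx
    have h1 : x ∉ f.smoothLocus := fun hxU => by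
      obtain ⟨k, _, _, ξ, hξ, hL⟩ := hsm x hx hxU
      exact not_mem_supp_cokernel ξ x hξ hL.1 hxs
    exact le_cast_min (hdimd x ⟨hx, h1⟩) (hdimn x hx)
  have hsR : ∀ q : ℕ, ∀ x ∈ EtPBC.supp ((EtCoh.Rpush j (q + 1)).obj ((EtCoh.pull j).obj F)),
      f x = closedPoint V → q + 1 ≤ n ∧
        topologicalKrullDim (closure ({x} : Set X)) ≤ (min d (n - (q + 1)) : ℕ) := by
    intro q x hxs hx
    have h1 : x ∉ f.smoothLocus := fun hxU => by
      obtain ⟨k, _, _, ξ, hξ, hL⟩ := hsm x hx hxU
      exact (mem_supp_iff _ x ξ ((range_eq_iff _ _).2 hξ)).1 hxs (hL.2 (q + 1) (Nat.succ_pos q))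
    obtain ⟨Osh, _, _, _, _, hO⟩ := S0537.result (X.presheaf.stalk x)
    have key : ∀ k : ℕ, k ≤ n → (k : WithBot ℕ∞) ≤ topologicalKrullDim ↥(closure ({x} : Set ↥X)) →
        q + 1 ≤ n - k := by
      intro k hk hk'
      by_contra hlt
      exact not_mem_supp_of_nearby f x Osh (ZMod m) (q + 1)
        (H x hx k hk hk' Osh (q + 1) (not_le.1 hlt)) hxs
    have hq : q + 1 ≤ n := by
      have := key 0 (Nat.zero_le n) (by
        rw [Nat.cast_zero]
        have : Nonempty (TopologicalSpace.IrreducibleCloseds (closure ({x} : Set X))) :=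
          ⟨⟨Set.univ, by
            have h : IrreducibleSpace (closure ({x} : Set X)) :=
              (isIrreducible_iff_irreducibleSpace.mp isIrreducible_singleton.closure)
            exact h.isIrreducible_univ, isClosed_univ⟩⟩
        exact Order.krullDim_nonneg)
      omega
    refine ⟨hq, ?_⟩
    refine le_cast_min (hdimd x ⟨hx, h1⟩) ?_
    by_contra hlt
    rw [not_le] at hlt
    have h2 : ((n - (q + 1) + 1 : ℕ) : WithBot ℕ∞) ≤ topologicalKrullDim ↥(closure ({x} : Set ↥X)) := by
      rw [Nat.cast_add, Nat.cast_one]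
      exact ENat.WithBot.add_one_le_iff.2 hlt
    have h3 := key (n - (q + 1) + 1) (by omega) h2
    omega
  -- vanishing of the cohomology
  have hvK : ∀ p, 2 * min d n < p →
      Subsingleton (EtCoh.H X (kernel ((EtCoh.pullPushAdj j).unit.app F)) p) := fun p hp =>
    SuppDim.van_proper f (min d n) _ htK hsK p hp
  have hvQ : ∀ p, 2 * min d n < p →
      Subsingleton (EtCoh.H X (cokernel ((EtCoh.pullPushAdj j).unit.app F)) p) := fun p hp =>
    SuppDim.van_proper f (min d n) _ htQ hsQ p hp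
  have hvR : ∀ p q, n + d < p + (q + 1) →
      Subsingleton (EtCoh.H X ((EtCoh.Rpush j (q + 1)).obj ((EtCoh.pull j).obj F)) p) := by
    intro p q hpq
    by_cases hq : q + 1 ≤ n
    · exact SuppDim.van_proper f (min d (n - (q + 1))) _ (htR (q + 1)) (fun x hx hx' => (hsR q x hx hx').2)
        p (by omega)
    · exact SuppDim.van_proper_of_disjoint f _ (htR (q + 1)) (fun x hx hx' => hq (hsR q x hx hx').1) p
  constructor
  · intro hi
    exact ⟨HpullHigh.Hpull_injective j F i (hvK i (by omega)) (fun p hp => hvQ p (by omega))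
        (fun p q hpq => hvR p q (by omega)),
      HpullHigh.Hpull_surjective j F i (hvK (i + 1) (by omega)) (hvQ i (by omega))
        (fun p q hpq => hvR p q (by omega))⟩
  · intro hi
    exact HpullHigh.Hpull_surjective j F i (hvK (i + 1) (by omega)) (hvQ i (by omega))
        (fun p q hpq => hvR p q (by omega))

end Groth.Agent.Sga7.H764.Main
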