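import Groth.Prelude.Def_SGA7I
import Groth.Agent.S0620
import Groth.Agent.EtpbcA.ArtinSupp
import Groth.Agent.EtpbcB.PBCVan
import Groth.Agent.Etrest.IsoInv
import Groth.Agent.S0101

/-!
# Nearby fibres compute the stalks of `R^q j_* j^* ℤ/m`

`j : X ×_V Ω ⟶ X`.  If the nearby fibre at `x` has no cohomology in degree `q`, then `R^q j_* j^* M` has no
stalk at `x`.
-/

set_option autoImplicit false
universe u

open CategoryTheory CategoryTheory.Limits AlgebraicGeometry Opposite IsLocalRing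

namespace Groth.Agent.Sga7.H764.Nearby

open Groth.Agent.EtpbcA.Artin

variable {V Ω : Type u} [CommRing V] [Field Ω] [Algebra V Ω] {X : Scheme.{u}}
  (f : X ⟶ Spec (CommRingCat.of V))

variable (Ω) in
/-- The projection `X ×_V Ω ⟶ X`. -/
noncomputable abbrev jb : pullback f (Spec.map (CommRingCat.ofHom (algebraMap V Ω))) ⟶ X :=
  pullback.fst f (Spec.map (CommRingCat.ofHom (algebraMap V Ω)))

variable (x : X) (Osh : Type u) [CommRing Osh] [Algebra ↑(X.presheaf.stalk x) Osh]

theorem isPullback_nearby :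
    IsPullback (pullback.lift (pullback.fst _ _ ≫ Hens2.specOf X x Osh) (pullback.snd _ _)
      (by rw [Category.assoc, Category.assoc]; exact pullback.condition) :
        SGA7.nearbyFibre f x Osh Ω ⟶ pullback f (Spec.map (CommRingCat.ofHom (algebraMap V Ω))))
      (pullback.fst _ _) (jb Ω f) (Hens2.specOf X x Osh) := by
  refine IsPullback.of_right (h₁₂ := pullback.snd _ _)
    (v₁₃ := Spec.map (CommRingCat.ofHom (algebraMap V Ω))) (h₂₂ := f) ?_ (pullback.lift_fst _ _ _)
    (IsPullback.of_hasPullback _ _).flip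
  rw [pullback.lift_snd, Category.assoc]
  exact (IsPullback.of_hasPullback _ _).flip

theorem subsingleton_H (M : Type) [AddCommGroup M] (q : ℕ)
    (h : Subsingleton (EtCoh.H (SGA7.nearbyFibre f x Osh Ω)
      (EtCoh.const (SGA7.nearbyFibre f x Osh Ω) M) q)) :
    Subsingleton (EtCoh.H (pullback (jb Ω f) (Hens2.specOf X x Osh))
      ((EtCoh.pull (pullback.fst (jb Ω f) (Hens2.specOf X x Osh))).obj
        ((EtCoh.pull (jb Ω f)).obj (EtCoh.const X M))) q) := by
  let P := pullback (jb Ω f) (Hens2.specOf X x Osh)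
  let W := SGA7.nearbyFibre f x Osh Ω
  let w : P ≅ W := (IsPullback.of_hasPullback _ _).isoIsPullback _ _ (isPullback_nearby f x Osh)
  have e1 : EtCoh.H W (EtCoh.const W M) q ≃+ EtCoh.H P ((EtCoh.pull w.hom).obj (EtCoh.const W M)) q :=
    Groth.Agent.Etrest.IsoInv.HIso w.hom (EtCoh.const W M) q
  have e2 : (EtCoh.pull w.hom).obj (EtCoh.const W M) ≅
      (EtCoh.pull (pullback.fst (jb Ω f) (Hens2.specOf X x Osh))).obj
        ((EtCoh.pull (jb Ω f)).obj (EtCoh.const X M)) :=
    EtCore.pullConst w.hom M ≪≫ (EtCore.pullConst (pullback.fst (jb Ω f) (Hens2.specOf X x Osh)) M).symm ≪≫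
      (EtCoh.pull (pullback.fst (jb Ω f) (Hens2.specOf X x Osh))).mapIso
        (EtCore.pullConst (jb Ω f) M).symm
  exact (e1.trans (Groth.Agent.Etrest.IsoInv.HCongr e2 q)).symm.toEquiv.subsingleton

theorem not_mem_supp_of_nearby [IsLocalRing Osh] [IsLocalHom (algebraMap ↑(X.presheaf.stalk x) Osh)]
    [Hensel.IsStrictHenselization ↑(X.presheaf.stalk x) Osh] (M : Type) [AddCommGroup M] (q : ℕ)
    (h : Subsingleton (EtCoh.H (SGA7.nearbyFibre f x Osh Ω)
      (EtCoh.const (SGA7.nearbyFibre f x Osh Ω) M) q)) :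
    x ∉ EtPBC.supp ((EtCoh.Rpush (jb Ω f) q).obj ((EtCoh.pull (jb Ω f)).obj (EtCoh.const X M))) := by
  have hsep : IsSepClosed (ResidueField Osh) :=
    (‹Hensel.IsStrictHenselization ↑(X.presheaf.stalk x) Osh›).isSepClosure.sep_closed
  rw [mem_supp_iff _ x (Hens2.geomPt X x Osh)
    ((range_eq_iff _ _).2 (EtpbcB.PBCVan.geomPt_default x Osh)), not_not]
  obtain ⟨e⟩ := S0620.result (jb Ω f) ((EtCoh.pull (jb Ω f)).obj (EtCoh.const X M)) x Osh q
  refine IsZero.of_iso ?_ e
  exact @AddCommGrpCat.isZero_of_subsingleton _ (subsingleton_H f x Osh M q h)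

end Groth.Agent.Sga7.H764.Nearby
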